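import Mathlib.LinearAlgebra.Matrix.GeneralLinearGroup.Defs
import Mathlib.LinearAlgebra.Matrix.NonsingularInverse
import Mathlib.RingTheory.Flat.Localization
import Mathlib.RingTheory.Flat.Stability
import Mathlib.RingTheory.Localization.Away.Basic
import Mathlib.RingTheory.TensorProduct.Basic
import Mathlib.RingTheory.TensorProduct.Maps
import Mathlib.Algebra.MvPolynomial.Basic
import Mathlib.LinearAlgebra.FreeModule.Basic

/-!
# The universal pair of invertible matrices over `ℤ`, and extension of a map of rings from generators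
-/

set_option autoImplicit false

universe u

open TensorProduct

namespace Groth.Agent.ResProp.EF.K151

/-- the universal pair of invertible matrices, flat over `ℤ` -/
structure UGL (r₁ r₂ : ℕ) where
  O : Type
  [cr : CommRing O]
  fl : Module.Flat ℤ O
  U₁ : GL (Fin r₁) O
  U₂ : GL (Fin r₂) O
  ev : ∀ {T : Type u} [CommRing T] (_ : GL (Fin r₁) T) (_ : GL (Fin r₂) T), O →+* T
  ev₁ : ∀ {T : Type u} [CommRing T] (g₁ : GL (Fin r₁) T) (g₂ : GL (Fin r₂) T),
    Matrix.GeneralLinearGroup.map (ev g₁ g₂) U₁ = g₁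
  ev₂ : ∀ {T : Type u} [CommRing T] (g₁ : GL (Fin r₁) T) (g₂ : GL (Fin r₂) T),
    Matrix.GeneralLinearGroup.map (ev g₁ g₂) U₂ = g₂

attribute [instance] UGL.cr

section constr

variable (r₁ r₂ : ℕ)

/-- the index set of the coordinates -/
abbrev Idx := (Fin r₁ × Fin r₁) ⊕ (Fin r₂ × Fin r₂)

/-- the first generic matrix -/
noncomputable def gm₁ : Matrix (Fin r₁) (Fin r₁) (MvPolynomial (Idx r₁ r₂) ℤ) :=
  Matrix.of fun i j => MvPolynomial.X (Sum.inl (i, j))

/-- the second generic matrix -/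
noncomputable def gm₂ : Matrix (Fin r₂) (Fin r₂) (MvPolynomial (Idx r₁ r₂) ℤ) :=
  Matrix.of fun i j => MvPolynomial.X (Sum.inr (i, j))

/-- the product of the determinants -/
noncomputable def dd : MvPolynomial (Idx r₁ r₂) ℤ := (gm₁ r₁ r₂).det * (gm₂ r₁ r₂).det

/-- the coordinate ring -/
abbrev OO := Localization.Away (dd r₁ r₂)

variable {r₁ r₂}

/-- evaluation on the polynomial ring -/
noncomputable def evP {T : Type u} [CommRing T] (g₁ : GL (Fin r₁) T) (g₂ : GL (Fin r₂) T) :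
    MvPolynomial (Idx r₁ r₂) ℤ →+* T :=
  MvPolynomial.eval₂Hom (Int.castRingHom T) (Sum.elim (fun p => g₁.1 p.1 p.2) (fun p => g₂.1 p.1 p.2))

lemma evP_gm₁ {T : Type u} [CommRing T] (g₁ : GL (Fin r₁) T) (g₂ : GL (Fin r₂) T) :
    (gm₁ r₁ r₂).map (evP g₁ g₂) = g₁.1 := by
  ext i j
  simp [gm₁, evP]

lemma evP_gm₂ {T : Type u} [CommRing T] (g₁ : GL (Fin r₁) T) (g₂ : GL (Fin r₂) T) :
    (gm₂ r₁ r₂).map (evP g₁ g₂) = g₂.1 := by
  ext i j
  simp [gm₂, evP]

lemma isUnit_evP {T : Type u} [CommRing T] (g₁ : GL (Fin r₁) T) (g₂ : GL (Fin r₂) T) :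
    IsUnit (evP g₁ g₂ (dd r₁ r₂)) := by
  rw [dd, map_mul, RingHom.map_det, RingHom.map_det]
  have h1 : (evP g₁ g₂).mapMatrix (gm₁ r₁ r₂) = g₁.1 := evP_gm₁ g₁ g₂
  have h2 : (evP g₁ g₂).mapMatrix (gm₂ r₁ r₂) = g₂.1 := evP_gm₂ g₁ g₂
  rw [h1, h2]
  exact ((Matrix.isUnit_iff_isUnit_det _).1 g₁.isUnit).mul ((Matrix.isUnit_iff_isUnit_det _).1 g₂.isUnit)

lemma isUnit_dd : IsUnit (algebraMap _ (OO r₁ r₂) (dd r₁ r₂)) :=
  IsLocalization.Away.algebraMap_isUnit _

lemma isUnit_det₁ : IsUnit ((gm₁ r₁ r₂).map (algebraMap _ (OO r₁ r₂))).det := by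
  have h : ((gm₁ r₁ r₂).map (algebraMap _ (OO r₁ r₂))).det = algebraMap _ (OO r₁ r₂) (gm₁ r₁ r₂).det :=
    (RingHom.map_det (algebraMap _ (OO r₁ r₂)) (gm₁ r₁ r₂)).symm
  have h2 : IsUnit (algebraMap _ (OO r₁ r₂) ((gm₁ r₁ r₂).det * (gm₂ r₁ r₂).det)) := isUnit_dd
  rw [map_mul] at h2
  rw [h]
  exact isUnit_of_mul_isUnit_left h2

lemma isUnit_det₂ : IsUnit ((gm₂ r₁ r₂).map (algebraMap _ (OO r₁ r₂))).det := by
  have h : ((gm₂ r₁ r₂).map (algebraMap _ (OO r₁ r₂))).det = algebraMap _ (OO r₁ r₂) (gm₂ r₁ r₂).det :=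
    (RingHom.map_det (algebraMap _ (OO r₁ r₂)) (gm₂ r₁ r₂)).symm
  have h2 : IsUnit (algebraMap _ (OO r₁ r₂) ((gm₁ r₁ r₂).det * (gm₂ r₁ r₂).det)) := isUnit_dd
  rw [map_mul] at h2
  rw [h]
  exact isUnit_of_mul_isUnit_right h2

end constr

/-- existence of the universal pair -/
noncomputable def ugl (r₁ r₂ : ℕ) : UGL.{u} r₁ r₂ where
  O := OO r₁ r₂
  fl := by
    have h1 : Module.Flat (MvPolynomial (Idx r₁ r₂) ℤ) (OO r₁ r₂) :=
      IsLocalization.flat _ (Submonoid.powers (dd r₁ r₂))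
    exact Module.Flat.trans ℤ (MvPolynomial (Idx r₁ r₂) ℤ) (OO r₁ r₂)
  U₁ := Matrix.GeneralLinearGroup.mk'' _ isUnit_det₁
  U₂ := Matrix.GeneralLinearGroup.mk'' _ isUnit_det₂
  ev g₁ g₂ := IsLocalization.Away.lift (dd r₁ r₂) (isUnit_evP g₁ g₂)
  ev₁ g₁ g₂ := by
    ext i j
    rw [Matrix.GeneralLinearGroup.map_apply]
    change IsLocalization.Away.lift (dd r₁ r₂) (isUnit_evP g₁ g₂)
      (algebraMap _ (OO r₁ r₂) (gm₁ r₁ r₂ i j)) = _
    rw [IsLocalization.Away.lift_eq]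
    exact congrFun (congrFun (evP_gm₁ g₁ g₂) i) j
  ev₂ g₁ g₂ := by
    ext i j
    rw [Matrix.GeneralLinearGroup.map_apply]
    change IsLocalization.Away.lift (dd r₁ r₂) (isUnit_evP g₁ g₂)
      (algebraMap _ (OO r₁ r₂) (gm₂ r₁ r₂ i j)) = _
    rw [IsLocalization.Away.lift_eq]
    exact congrFun (congrFun (evP_gm₂ g₁ g₂) i) j

section ext

variable {D L O : Type*} [CommRing D] [CommRing L] [CommRing O]

/-- `D ⊗ O → L ⊗ O` -/
noncomputable def jmap (O : Type*) [CommRing O] (inc : D →+* L) : D ⊗[ℤ] O →+* L ⊗[ℤ] O :=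
  (Algebra.TensorProduct.map inc.toIntAlgHom (AlgHom.id ℤ O)).toRingHom

lemma jmap_tmul (inc : D →+* L) (d : D) (o : O) : jmap O inc (d ⊗ₜ o) = inc d ⊗ₜ o := rfl

lemma jmap_injective [Module.Flat ℤ O] (inc : D →+* L) (h : Function.Injective inc) :
    Function.Injective (jmap O inc) := by
  have h1 : Function.Injective (inc.toIntAlgHom.toLinearMap.rTensor O) :=
    Module.Flat.rTensor_preserves_injective_linearMap _ h
  intro a b hab
  apply h1
  exact hab

theorem exists_restrict [Module.Flat ℤ O] (inc : D →+* L) (h : Function.Injective inc)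
    (ρL : L →+* L ⊗[ℤ] O) (gens : Set D) (hgen : Subring.closure gens = ⊤)
    (hg : ∀ z ∈ gens, ∃ w : D ⊗[ℤ] O, jmap O inc w = ρL (inc z)) :
    ∃ ρ : D →+* D ⊗[ℤ] O, ∀ z, jmap O inc (ρ z) = ρL (inc z) := by
  have hall : ∀ z : D, ρL.comp inc z ∈ (jmap O inc).range := by
    intro z
    have hz : z ∈ Subring.closure gens := by rw [hgen]; trivial
    induction hz using Subring.closure_induction with
    | mem z hz => exact hg z hz
    | zero => rw [map_zero]; exact Subring.zero_mem _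
    | one => rw [map_one]; exact Subring.one_mem _
    | add a b ha hb h₁ h₂ => rw [map_add]; exact Subring.add_mem _ h₁ h₂
    | neg a ha h => rw [map_neg]; exact Subring.neg_mem _ h
    | mul a b ha hb h₁ h₂ => rw [map_mul]; exact Subring.mul_mem _ h₁ h₂
  have hb : Function.Bijective (jmap O inc).rangeRestrict :=
    ⟨fun a b hab => jmap_injective inc h (congrArg Subtype.val hab), (jmap O inc).rangeRestrict_surjective⟩
  refine ⟨(RingEquiv.ofBijective _ hb).symm.toRingHom.comp ((ρL.comp inc).codRestrict _ hall), fun z => ?_⟩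
  have h1 := (RingEquiv.ofBijective _ hb).apply_symm_apply ((ρL.comp inc).codRestrict _ hall z)
  exact congrArg Subtype.val h1

/-- the map `D ⊗ O → T` given by `φ` and `ψ` -/
noncomputable def liftT {T : Type*} [CommRing T] (φ : D →+* T) (ψ : O →+* T) : D ⊗[ℤ] O →+* T :=
  (Algebra.TensorProduct.lift φ.toIntAlgHom ψ.toIntAlgHom (fun _ _ => Commute.all _ _)).toRingHom

lemma liftT_tmul {T : Type*} [CommRing T] (φ : D →+* T) (ψ : O →+* T) (d : D) (o : O) :
    liftT φ ψ (d ⊗ₜ o) = φ d * ψ o :=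
  Algebra.TensorProduct.lift_tmul _ _ _ _ _

end ext

end Groth.Agent.ResProp.EF.K151
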