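import Groth.Agent.ResProp.EF.K743.Iface2
import Groth.Agent.ResProp.EF.K151.UGL

/-!
# `StmtGLAct`: the group `GL_r₁ × GL_r₂` acts on the frame ring
-/

set_option autoImplicit false

universe u

open TensorProduct

namespace Groth.Agent.ResProp.EF.K151

open Groth.Agent.Grpsch.AffGrpd K743

section comp

variable {S : Type*} [CommRing S] {r m n : ℕ}

/-- the identity behind the formula for `μ` -/
lemma mu_identity {r₁ r₂ : ℕ} (l : Fin r₂ → S) (U : Fin r₂ → Fin r₂ → S) (u2 : Fin r₂ → S)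
    (mu0 : (Fin m → Fin r₁) → Fin r₂ → S) (a b : Fin r₁ → Fin r₁ → S) (κ : Fin m → Fin r₁)
    (hl : ∀ c, l c = ∑ b', u2 b' * U b' c) :
    (∑ c, ∑ κ' : Fin m → Fin r₁, l c * mu0 κ' c * ∏ i, ∑ e, a (κ' i) e * b e (κ i)) =
      ∑ b', ∑ κ'' : Fin m → Fin r₁, u2 b' *
        (∑ c, ∑ κ' : Fin m → Fin r₁, U b' c * mu0 κ' c * ∏ i, a (κ' i) (κ'' i)) * ∏ i, b (κ'' i) (κ i) := by
  have h1 : ∀ κ' : Fin m → Fin r₁, (∏ i, ∑ e, a (κ' i) e * b e (κ i)) =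
      ∑ κ'' : Fin m → Fin r₁, (∏ i, a (κ' i) (κ'' i)) * ∏ i, b (κ'' i) (κ i) := by
    intro κ'
    rw [Finset.prod_univ_sum, Fintype.piFinset_univ]
    refine Finset.sum_congr rfl fun κ'' _ => ?_
    rw [Finset.prod_mul_distrib]
  calc _ = ∑ c, ∑ κ' : Fin m → Fin r₁, ∑ b', ∑ κ'' : Fin m → Fin r₁,
        u2 b' * (U b' c * mu0 κ' c * ∏ i, a (κ' i) (κ'' i)) * ∏ i, b (κ'' i) (κ i) := by
        refine Finset.sum_congr rfl fun c _ => Finset.sum_congr rfl fun κ' _ => ?_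
        rw [h1, hl, Finset.sum_mul, Finset.sum_mul]
        refine Finset.sum_congr rfl fun b' _ => ?_
        rw [Finset.mul_sum]
        refine Finset.sum_congr rfl fun κ'' _ => ?_
        ring
    _ = ∑ b', ∑ κ'' : Fin m → Fin r₁, ∑ c, ∑ κ' : Fin m → Fin r₁,
        u2 b' * (U b' c * mu0 κ' c * ∏ i, a (κ' i) (κ'' i)) * ∏ i, b (κ'' i) (κ i) := by
        rw [Finset.sum_congr rfl fun c _ => Finset.sum_comm]
        rw [Finset.sum_comm]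
        refine Finset.sum_congr rfl fun b' _ => ?_
        rw [Finset.sum_congr rfl fun c _ => Finset.sum_comm]
        rw [Finset.sum_comm]
    _ = _ := by
        refine Finset.sum_congr rfl fun b' _ => Finset.sum_congr rfl fun κ'' _ => ?_
        rw [Finset.mul_sum, Finset.sum_mul]
        refine Finset.sum_congr rfl fun c _ => ?_
        rw [Finset.mul_sum, Finset.sum_mul]

end comp

variable {A Γ : Type u} [CommRing A] [CommRing Γ] {G : RGrpd A Γ} {X : Gens G} {m : ℕ} {K : Type u}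
    [Field K] {x : A →+* K} (P : PtData G X m x) (R : LRing G x P.r₁ P.r₂)

/-- the universal pair -/
noncomputable abbrev V : UGL.{u} P.r₁ P.r₂ := ugl P.r₁ P.r₂

/-- `L → L ⊗ O` -/
noncomputable abbrev inL : R.L →+* R.L ⊗[ℤ] (V P).O := Algebra.TensorProduct.includeLeftRingHom

/-- `O → L ⊗ O` -/
noncomputable abbrev inO : (V P).O →+* R.L ⊗[ℤ] (V P).O :=
  (Algebra.TensorProduct.includeRight : (V P).O →ₐ[ℤ] R.L ⊗[ℤ] (V P).O).toRingHom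

open Matrix.GeneralLinearGroup (map)

lemma hγ' : ((inL P R).comp R.γ).comp G.s = ((inL P R).comp R.y).comp x := by
  rw [RingHom.comp_assoc, R.hγ, RingHom.comp_assoc]

/-- the translation `(l₁, l₂) ↦ (g₁⁻¹ l₁, g₂⁻¹ l₂)` -/
noncomputable def ρL : R.L →+* R.L ⊗[ℤ] (V P).O :=
  R.lift ((inL P R).comp R.y) ((inL P R).comp R.γ) (hγ' P R)
    ((map (inO P R) (V P).U₁)⁻¹ * map (inL P R) R.l₁) ((map (inO P R) (V P).U₂)⁻¹ * map (inL P R) R.l₂)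

lemma ρL_y (a : K) : ρL P R (R.y a) = inL P R (R.y a) := RingHom.congr_fun (R.lift_y _ _ _ _ _) a

lemma ρL_γ (a : Γ) : ρL P R (R.γ a) = inL P R (R.γ a) := RingHom.congr_fun (R.lift_γ _ _ _ _ _) a

lemma map_ρL_l₁ : map (ρL P R) R.l₁ = (map (inO P R) (V P).U₁)⁻¹ * map (inL P R) R.l₁ := by
  ext i j
  rw [Matrix.GeneralLinearGroup.map_apply]
  exact R.lift_l₁ _ _ _ _ _ i j

lemma map_ρL_l₂ : map (ρL P R) R.l₂ = (map (inO P R) (V P).U₂)⁻¹ * map (inL P R) R.l₂ := by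
  ext i j
  rw [Matrix.GeneralLinearGroup.map_apply]
  exact R.lift_l₂ _ _ _ _ _ i j

lemma map_ρL_l₁_inv : map (ρL P R) R.l₁⁻¹ = map (inL P R) R.l₁⁻¹ * map (inO P R) (V P).U₁ := by
  rw [map_inv, map_ρL_l₁, mul_inv_rev, inv_inv, map_inv]

lemma ρL_l₁ (a a' : Fin P.r₁) : ρL P R (R.l₁.1 a a') =
    ∑ b, inO P R ((V P).U₁⁻¹.1 a b) * inL P R (R.l₁.1 b a') := by
  have h := congrArg (fun g : GL (Fin P.r₁) _ => g.1 a a') (map_ρL_l₁ P R)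
  rw [← map_inv] at h
  exact h

lemma ρL_l₂ (a a' : Fin P.r₂) : ρL P R (R.l₂.1 a a') =
    ∑ b, inO P R ((V P).U₂⁻¹.1 a b) * inL P R (R.l₂.1 b a') := by
  have h := congrArg (fun g : GL (Fin P.r₂) _ => g.1 a a') (map_ρL_l₂ P R)
  rw [← map_inv] at h
  exact h

lemma ρL_l₁_inv (a a' : Fin P.r₁) : ρL P R (R.l₁⁻¹.1 a a') =
    ∑ b, inL P R (R.l₁⁻¹.1 a b) * inO P R ((V P).U₁.1 b a') := by
  exact congrArg (fun g : GL (Fin P.r₁) _ => g.1 a a') (map_ρL_l₁_inv P R)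

lemma ρL_Q₁ (j : Fin X.n) (a : Fin P.r₁) : ρL P R (LRing.Q₁L P R j a) =
    ∑ a', inL P R (LRing.Q₁L P R j a') * inO P R ((V P).U₁⁻¹.1 a a') := by
  simp only [LRing.Q₁L, map_sum, map_mul, ρL_γ, ρL_y, ρL_l₁, Finset.mul_sum, Finset.sum_mul]
  rw [Finset.sum_congr rfl fun k _ => Finset.sum_comm, Finset.sum_comm]
  refine Finset.sum_congr rfl fun b _ => Finset.sum_congr rfl fun k _ => Finset.sum_congr rfl fun a' _ => ?_
  ring

lemma ρL_μ (κ : Fin m → Fin P.r₁) (b : Fin P.r₂) : ρL P R (LRing.μL P R κ b) =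
    ∑ b', ∑ κ' : Fin m → Fin P.r₁, inO P R ((V P).U₂⁻¹.1 b b') * inL P R (LRing.μL P R κ' b') *
      ∏ i, inO P R ((V P).U₁.1 (κ' i) (κ i)) := by
  simp only [LRing.μL, map_sum, map_mul, map_prod, ρL_y, ρL_l₁_inv]
  exact mu_identity (fun c => ρL P R (R.l₂.1 b c)) (fun b' c => inL P R (R.l₂.1 b' c))
    (fun b' => inO P R ((V P).U₂⁻¹.1 b b')) (fun κ' c => inL P R (R.y (P.μ₀ κ' c)))
    (fun i j => inL P R (R.l₁⁻¹.1 i j)) (fun i j => inO P R ((V P).U₁.1 i j)) κ (fun c => ρL_l₂ P R b c)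

/-- abbreviation -/
noncomputable abbrev FD := LRing.frameData P R

/-- the inclusion -/
noncomputable abbrev inc : (FD P R).D →+* R.L := (LRing.DL P R).subtype

lemma inc_injective : Function.Injective (inc P R) := Subtype.val_injective

/-- `ι a ⊗ 1` -/
noncomputable def wι (a : A) : (FD P R).D ⊗[ℤ] (V P).O := (FD P R).ι a ⊗ₜ 1

/-- the image of `Q₁ j a` -/
noncomputable def wQ (j : Fin X.n) (a : Fin P.r₁) : (FD P R).D ⊗[ℤ] (V P).O :=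
  ∑ a', (FD P R).Q₁ j a' ⊗ₜ ((V P).U₁⁻¹.1 a a')

/-- the image of `μ κ b` -/
noncomputable def wμ (κ : Fin m → Fin P.r₁) (b : Fin P.r₂) : (FD P R).D ⊗[ℤ] (V P).O :=
  ∑ b', ∑ κ' : Fin m → Fin P.r₁, (FD P R).μ κ' b' ⊗ₜ ((V P).U₂⁻¹.1 b b' * ∏ i, (V P).U₁.1 (κ' i) (κ i))

lemma tmul_eq (l : R.L) (o : (V P).O) : l ⊗ₜ[ℤ] o = inL P R l * inO P R o := by
  change l ⊗ₜ[ℤ] o = (l ⊗ₜ 1) * (1 ⊗ₜ o)
  rw [Algebra.TensorProduct.tmul_mul_tmul, mul_one, one_mul]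

lemma jwι (a : A) : jmap _ (inc P R) (wι P R a) = ρL P R (inc P R ((FD P R).ι a)) := by
  change R.γ (G.t a) ⊗ₜ[ℤ] (1 : (V P).O) = ρL P R (R.γ (G.t a))
  rw [ρL_γ]
  rfl

lemma jwQ (j : Fin X.n) (a : Fin P.r₁) :
    jmap _ (inc P R) (wQ P R j a) = ρL P R (inc P R ((FD P R).Q₁ j a)) := by
  change _ = ρL P R (LRing.Q₁L P R j a)
  rw [ρL_Q₁, wQ, map_sum]
  refine Finset.sum_congr rfl fun a' _ => ?_
  rw [jmap_tmul, tmul_eq]
  rfl

lemma jwμ (κ : Fin m → Fin P.r₁) (b : Fin P.r₂) :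
    jmap _ (inc P R) (wμ P R κ b) = ρL P R (inc P R ((FD P R).μ κ b)) := by
  change _ = ρL P R (LRing.μL P R κ b)
  rw [ρL_μ, wμ, map_sum]
  refine Finset.sum_congr rfl fun b' _ => ?_
  rw [map_sum]
  refine Finset.sum_congr rfl fun κ' _ => ?_
  rw [jmap_tmul, tmul_eq, map_mul, map_prod, ← mul_assoc, mul_comm (inO P R _) (inL P R _)]
  rfl

theorem exists_ρ : ∃ ρ : (FD P R).D →+* (FD P R).D ⊗[ℤ] (V P).O,
    (∀ a, ρ ((FD P R).ι a) = wι P R a) ∧ (∀ j a, ρ ((FD P R).Q₁ j a) = wQ P R j a) ∧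
      (∀ κ b, ρ ((FD P R).μ κ b) = wμ P R κ b) := by
  have := (V P).fl
  obtain ⟨ρ, hρ⟩ := exists_restrict (inc P R) (inc_injective P R) (ρL P R) _ (FD P R).gen (by
    rintro z ((⟨a, rfl⟩ | ⟨p, rfl⟩) | ⟨p, rfl⟩)
    · exact ⟨_, jwι P R a⟩
    · exact ⟨_, jwQ P R p.1 p.2⟩
    · exact ⟨_, jwμ P R p.1 p.2⟩)
  refine ⟨ρ, fun a => ?_, fun j a => ?_, fun κ b => ?_⟩
  · exact jmap_injective _ (inc_injective P R) ((hρ _).trans (jwι P R a).symm)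
  · exact jmap_injective _ (inc_injective P R) ((hρ _).trans (jwQ P R j a).symm)
  · exact jmap_injective _ (inc_injective P R) ((hρ _).trans (jwμ P R κ b).symm)

lemma aux_mul {T : Type*} [CommRing T] (a b c : T) : a * (b * c) = b * a * c := by ring

theorem nonempty_glAct : Nonempty (GLAct (LRing.frameData P R)) := by
  obtain ⟨ρ, h1, h2, h3⟩ := exists_ρ P R
  have e1 : ∀ {T : Type u} [CommRing T] (g₁ : GL (Fin P.r₁) T) (g₂ : GL (Fin P.r₂) T) (i j : Fin P.r₁),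
      (V P).ev g₁ g₂ ((V P).U₁.1 i j) = g₁.1 i j := fun g₁ g₂ i j =>
    congrArg (fun g : GL (Fin P.r₁) _ => g.1 i j) ((V P).ev₁ g₁ g₂)
  have e2 : ∀ {T : Type u} [CommRing T] (g₁ : GL (Fin P.r₁) T) (g₂ : GL (Fin P.r₂) T) (i j : Fin P.r₁),
      (V P).ev g₁ g₂ ((V P).U₁⁻¹.1 i j) = g₁⁻¹.1 i j := fun g₁ g₂ i j => by
    have h := congrArg (fun g : GL (Fin P.r₁) _ => g⁻¹.1 i j) ((V P).ev₁ g₁ g₂)
    simp only [← map_inv] at h
    exact h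
  have e3 : ∀ {T : Type u} [CommRing T] (g₁ : GL (Fin P.r₁) T) (g₂ : GL (Fin P.r₂) T) (i j : Fin P.r₂),
      (V P).ev g₁ g₂ ((V P).U₂⁻¹.1 i j) = g₂⁻¹.1 i j := fun g₁ g₂ i j => by
    have h := congrArg (fun g : GL (Fin P.r₂) _ => g⁻¹.1 i j) ((V P).ev₂ g₁ g₂)
    simp only [← map_inv] at h
    exact h
  refine ⟨⟨fun g₁ g₂ φ => (liftT φ ((V P).ev g₁ g₂)).comp ρ, ?_, ?_, ?_⟩⟩
  · intro T _ g₁ g₂ φ
    ext a
    change liftT φ ((V P).ev g₁ g₂) (ρ ((FD P R).ι a)) = _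
    rw [h1, wι, liftT_tmul, map_one, mul_one]
    rfl
  · intro T _ g₁ g₂ φ j a
    change liftT φ ((V P).ev g₁ g₂) (ρ ((FD P R).Q₁ j a)) = _
    rw [h2]
    change liftT φ ((V P).ev g₁ g₂) (∑ a' : Fin P.r₁, (FD P R).Q₁ j a' ⊗ₜ ((V P).U₁⁻¹.1 a a')) = _
    rw [map_sum]
    refine Finset.sum_congr rfl fun a' _ => ?_
    rw [liftT_tmul]
    exact (congrArg (φ ((FD P R).Q₁ j a') * ·) (e2 g₁ g₂ a a')).trans (mul_comm _ _)
  · intro T _ g₁ g₂ φ κ b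
    change liftT φ ((V P).ev g₁ g₂) (ρ ((FD P R).μ κ b)) = _
    rw [h3]
    change liftT φ ((V P).ev g₁ g₂) (∑ b' : Fin P.r₂, ∑ κ' : Fin m → Fin P.r₁, (FD P R).μ κ' b' ⊗ₜ
      ((V P).U₂⁻¹.1 b b' * ∏ i, (V P).U₁.1 (κ' i) (κ i))) = _
    rw [map_sum]
    refine Finset.sum_congr rfl fun b' _ => ?_
    rw [map_sum]
    refine Finset.sum_congr rfl fun κ' _ => ?_
    rw [liftT_tmul, map_mul, map_prod]
    exact (congrArg₂ (fun s t => φ ((FD P R).μ κ' b') * (s * t)) (e3 g₁ g₂ b b')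
      (Finset.prod_congr rfl fun i _ => e1 g₁ g₂ (κ' i) (κ i))).trans (aux_mul _ _ _)

/-- **F5** -/
theorem stmtGLAct : StmtGLAct.{u} := by
  intro A Γ _ _ G X m K _ x P R
  exact nonempty_glAct P R

end Groth.Agent.ResProp.EF.K151
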